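import Mathlib.AlgebraicGeometry.AffineTransitionLimit
import Mathlib.AlgebraicGeometry.Morphisms.FinitePresentation
import Mathlib.AlgebraicGeometry.PullbackCarrier
import Mathlib.CategoryTheory.Filtered.Final
import Mathlib.CategoryTheory.Limits.Shapes.Pullback.Connected
import Mathlib.RingTheory.FinitePresentation

/-!
# Base change of cofiltered systems of schemes and descent of properties (EGA IV, §8)
-/

universe u

set_option autoImplicit false
set_option backward.isDefEq.respectTransparency false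

open CategoryTheory Limits AlgebraicGeometry

namespace Groth.Agent.EGA43.Limit

theorem locallyOfFinitePresentation_of_comp {X Y Z : Scheme.{u}} (f : X ⟶ Y) (g : Y ⟶ Z)
    [hg : LocallyOfFiniteType g] [h : LocallyOfFinitePresentation (f ≫ g)] :
    LocallyOfFinitePresentation f := by
  wlog hZ : IsAffine Z generalizing X Y Z
  · rw [IsZariskiLocalAtTarget.iff_of_iSup_eq_top (P := @LocallyOfFinitePresentation.{u}) _
      (g.iSup_preimage_eq_top (iSup_affineOpens_eq_top Z))]
    intro U
    have H : LocallyOfFinitePresentation ((f ≫ g) ∣_ U.1) :=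
      IsZariskiLocalAtTarget.restrict (P := @LocallyOfFinitePresentation.{u}) h U.1
    rw [morphismRestrict_comp] at H
    exact this (hg := IsZariskiLocalAtTarget.restrict (P := @LocallyOfFiniteType.{u}) hg U.1) (h := H)
      (f ∣_ (g ⁻¹ᵁ U.1)) (g ∣_ U.1) (by exact U.2)
  wlog hY : IsAffine Y generalizing X Y
  · rw [IsZariskiLocalAtTarget.iff_of_iSup_eq_top (P := @LocallyOfFinitePresentation.{u}) _
      (iSup_affineOpens_eq_top Y)]
    intro U
    have H : LocallyOfFinitePresentation ((f ⁻¹ᵁ U.1).ι ≫ f ≫ g) :=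
      HasRingHomProperty.comp_of_isOpenImmersion (P := @LocallyOfFinitePresentation.{u}) _ _ h
    rw [← morphismRestrict_ι_assoc] at H
    exact this (hg := HasRingHomProperty.comp_of_isOpenImmersion (P := @LocallyOfFiniteType.{u}) _ _ hg)
      (h := H) (f ∣_ U.1) (U.1.ι ≫ g) (by exact U.2)
  wlog hX : IsAffine X generalizing X
  · rw [IsZariskiLocalAtSource.iff_of_iSup_eq_top (P := @LocallyOfFinitePresentation.{u}) _
      (iSup_affineOpens_eq_top X)]
    intro U
    have H : LocallyOfFinitePresentation (U.1.ι ≫ f ≫ g) :=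
      HasRingHomProperty.comp_of_isOpenImmersion (P := @LocallyOfFinitePresentation.{u}) _ _ h
    rw [← Category.assoc] at H
    exact this (h := H) (U.1.ι ≫ f) (by exact U.2)
  rw [HasRingHomProperty.iff_of_isAffine (P := @LocallyOfFinitePresentation.{u})] at h ⊢
  rw [HasRingHomProperty.iff_of_isAffine (P := @LocallyOfFiniteType.{u})] at hg
  rw [Scheme.Hom.comp_appTop, CommRingCat.hom_comp] at h
  algebraize [g.appTop.hom, f.appTop.hom, f.appTop.hom.comp g.appTop.hom]
  exact Algebra.FinitePresentation.of_restrict_scalars_finitePresentation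
    (R := Γ(Z, ⊤)) (A := Γ(Y, ⊤)) (B := Γ(X, ⊤))

variable {I : Type u} [SmallCategory I] (D : I ⥤ Scheme.{u}) (c : Cone D) {i₀ : I}

section Stage

variable {Z : Scheme.{u}} (g : Z ⟶ D.obj i₀)

/-- The base change of the system `D` along `g : Z ⟶ D i₀`. -/
noncomputable def stage : Over i₀ ⥤ Scheme.{u} where
  obj j := pullback g (D.map j.hom)
  map {j k} φ := pullback.lift (pullback.fst _ _) (pullback.snd _ _ ≫ D.map φ.left)
    (by rw [Category.assoc, ← D.map_comp, Over.w φ, pullback.condition])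
  map_id j := by
    apply pullback.hom_ext
    · rw [pullback.lift_fst, Category.id_comp]
    · rw [pullback.lift_snd, Category.id_comp, Over.id_left, D.map_id, Category.comp_id]
  map_comp φ ψ := by
    apply pullback.hom_ext
    · simp
    · simp

noncomputable def stageFst : stage D g ⟶ (Functor.const (Over i₀)).obj Z where
  app j := pullback.fst _ _
  naturality _ _ _ := by
    simp only [stage]
    rw [pullback.lift_fst]
    exact (Category.comp_id _).symm

noncomputable def stageSnd : stage D g ⟶ Over.forget i₀ ⋙ D where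
  app j := pullback.snd _ _
  naturality _ _ _ := by
    simp only [stage]
    rw [pullback.lift_snd]
    rfl

theorem stage_map_fst {j k : Over i₀} (φ : j ⟶ k) :
    (stage D g).map φ ≫ pullback.fst g (D.map k.hom) = pullback.fst g (D.map j.hom) :=
  pullback.lift_fst _ _ _

theorem stage_isPullback {j k : Over i₀} (φ : j ⟶ k) :
    IsPullback ((stage D g).map φ) (pullback.snd g (D.map j.hom)) (pullback.snd g (D.map k.hom))
      (D.map φ.left) := by
  refine IsPullback.of_right ?_ (pullback.lift_snd _ _ _) (IsPullback.of_hasPullback g (D.map k.hom))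
  rw [stage_map_fst, ← D.map_comp, Over.w]
  exact IsPullback.of_hasPullback _ _

instance [∀ {i j} (f : i ⟶ j), IsAffineHom (D.map f)] {j k : Over i₀} (φ : j ⟶ k) :
    IsAffineHom ((stage D g).map φ) :=
  MorphismProperty.of_isPullback (P := @IsAffineHom.{u}) (stage_isPullback D g φ).flip inferInstance

instance [∀ {i j} (f : i ⟶ j), IsAffineHom (D.map f)] [CompactSpace (D.obj i₀)]
    [QuasiCompact g] (j : Over i₀) : CompactSpace ((stage D g).obj j) := by
  have : CompactSpace Z := QuasiCompact.compactSpace_of_compactSpace g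
  have := QuasiCompact.compactSpace_of_compactSpace (pullback.fst g (D.map j.hom))
  exact this

instance [∀ {i j} (f : i ⟶ j), IsAffineHom (D.map f)] [QuasiSeparatedSpace (D.obj i₀)]
    [QuasiSeparated g] (j : Over i₀) : QuasiSeparatedSpace ((stage D g).obj j) := by
  have : QuasiSeparatedSpace Z := quasiSeparatedSpace_of_quasiSeparated g
  exact quasiSeparatedSpace_of_quasiSeparated (pullback.fst g (D.map j.hom))

variable {W : Scheme.{u}} {p : W ⟶ Z} {q : W ⟶ c.pt} (sq : IsPullback p q g (c.π.app i₀))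

/-- The cone over the base changed system. -/
@[simps]
noncomputable def stageCone : Cone (stage D g) where
  pt := W
  π :=
  { app j := pullback.lift p (q ≫ c.π.app j.left) (by rw [Category.assoc, c.w, sq.w])
    naturality j k φ := by
      dsimp [stage]
      rw [Category.id_comp]
      apply pullback.hom_ext
      · simp
      · simp }

theorem stageCone_isPullback (j : Over i₀) :
    IsPullback ((stageCone D c g sq).π.app j) q (pullback.snd g (D.map j.hom)) (c.π.app j.left) := by
  refine IsPullback.of_right ?_ (pullback.lift_snd _ _ _) (IsPullback.of_hasPullback g (D.map j.hom))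
  have e : (stageCone D c g sq).π.app j ≫ pullback.fst g (D.map j.hom) = p := pullback.lift_fst _ _ _
  rw [e, c.w]
  exact sq

attribute [local instance] CategoryTheory.isConnected_of_hasTerminal

/-- The base changed cone is limiting. -/
noncomputable def isLimitStageCone [IsCofiltered I] (hc : IsLimit c) :
    IsLimit (stageCone D c g sq) :=
  isLimitOfIsPullbackOfIsConnected (G := Over.forget i₀ ⋙ D) (stageSnd D g) (stageCone D c g sq)
    (c.whisker (Over.forget i₀))
    { hom := q
      w := fun j => (pullback.lift_snd _ _ _ :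
        pullback.lift p (q ≫ c.π.app j.left) _ ≫ pullback.snd g (D.map j.hom) = _).symm }
    (fun j => stageCone_isPullback D c g sq j)
    ((Functor.Initial.isLimitWhiskerEquiv (Over.forget i₀) c).symm hc)

end Stage

/-- `P` descends along cofiltered limits with affine transition maps, for quasi-compact
quasi-separated morphisms satisfying `Q`. -/
def Descends (Q P : MorphismProperty Scheme.{u}) : Prop :=
  ∀ ⦃I : Type u⦄ [SmallCategory I] [IsCofiltered I] (D : I ⥤ Scheme.{u}) (c : Cone D) (_ : IsLimit c)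
    [∀ (i j : I) (f : i ⟶ j), IsAffineHom (D.map f)] (i₀ : I) [CompactSpace (D.obj i₀)]
    [QuasiSeparatedSpace (D.obj i₀)] {X₀ : Scheme.{u}} (f₀ : X₀ ⟶ D.obj i₀)
    [QuasiCompact f₀] [QuasiSeparated f₀] (_ : Q f₀)
    {X : Scheme.{u}} (p : X ⟶ X₀) (f : X ⟶ c.pt), IsPullback p f f₀ (c.π.app i₀) → P f →
    ∃ (j : I) (φ : j ⟶ i₀), P (pullback.snd f₀ (D.map φ))

variable {D c}

theorem transfer' {Q P : MorphismProperty Scheme.{u}} [Q.RespectsIso] [P.RespectsIso]
    {X₀ Y₀ : Scheme.{u}} (f₀ : X₀ ⟶ Y₀) (g₀ : Y₀ ⟶ D.obj i₀)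
    [QuasiCompact f₀] [QuasiSeparated f₀] (hQ : Q f₀)
    {X Y : Scheme.{u}} {f : X ⟶ Y} {g : Y ⟶ c.pt} {qY : Y ⟶ Y₀} {qX : X ⟶ X₀}
    (hY : IsPullback qY g g₀ (c.π.app i₀)) (hX : IsPullback qX f f₀ qY) (hf : P f)
    (h : ∀ (f₁ : X₀ ⟶ (stage D g₀).obj (Over.mk (𝟙 i₀))) [QuasiCompact f₁] [QuasiSeparated f₁],
      Q f₁ → IsPullback qX f f₁ ((stageCone D c g₀ hY).π.app (Over.mk (𝟙 i₀))) →
      ∃ (j : Over i₀) (φ : j ⟶ Over.mk (𝟙 i₀)), P (pullback.snd f₁ ((stage D g₀).map φ))) :
    ∃ (j : I) (φ : j ⟶ i₀), P (pullback.snd f₀ (pullback.fst g₀ (D.map φ))) := by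
  let o : Over i₀ := Over.mk (𝟙 i₀)
  have hfst : IsIso (pullback.fst g₀ (D.map o.hom)) := by
    have : IsIso (D.map o.hom) := by
      show IsIso (D.map (𝟙 i₀))
      rw [D.map_id]
      infer_instance
    exact pullback_fst_iso_of_right_iso _ _
  let f₁ : X₀ ⟶ (stage D g₀).obj o := f₀ ≫ inv (pullback.fst g₀ (D.map o.hom))
  have hQ₁ : Q f₁ := (Q.cancel_right_of_respectsIso f₀ _).2 hQ
  have : QuasiCompact f₁ := inferInstanceAs (QuasiCompact (_ ≫ _))
  have : QuasiSeparated f₁ := inferInstanceAs (QuasiSeparated (_ ≫ _))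
  obtain ⟨j, φ, hj⟩ := h f₁ hQ₁ (hX.of_iso (Iso.refl _) (Iso.refl _) (Iso.refl _)
      (asIso (pullback.fst g₀ (D.map o.hom))).symm
      (by simp) (by simp) (by simp [f₁]) (by
        simp only [Iso.symm_hom, asIso_inv, Iso.refl_hom, Category.id_comp]
        rw [IsIso.comp_inv_eq]
        exact (pullback.lift_fst _ _ _).symm))
  refine ⟨j.left, j.hom, (P.arrow_mk_iso_iff ?_).1 hj⟩
  have e : (stage D g₀).map φ ≫ pullback.fst g₀ (D.map o.hom) = pullback.fst g₀ (D.map j.hom) :=
    pullback.lift_fst _ _ _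
  have sq : IsPullback (pullback.fst f₁ ((stage D g₀).map φ)) (pullback.snd f₁ ((stage D g₀).map φ))
      f₀ (pullback.fst g₀ (D.map j.hom)) := by
    rw [← e]
    exact (IsPullback.of_hasPullback f₁ ((stage D g₀).map φ)).of_iso (Iso.refl _) (Iso.refl _)
      (Iso.refl _) (asIso (pullback.fst g₀ (D.map o.hom))) (by simp) (by simp) (by simp [f₁]) (by simp)
  exact Arrow.isoMk sq.isoPullback (Iso.refl _) (by simp)

theorem Descends.transfer {Q P : MorphismProperty Scheme.{u}} [Q.RespectsIso] [P.RespectsIso]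
    (hP : Descends Q P) [IsCofiltered I] (hc : IsLimit c)
    [∀ (i j : I) (f : i ⟶ j), IsAffineHom (D.map f)]
    [CompactSpace (D.obj i₀)] [QuasiSeparatedSpace (D.obj i₀)]
    {X₀ Y₀ : Scheme.{u}} (f₀ : X₀ ⟶ Y₀) (g₀ : Y₀ ⟶ D.obj i₀)
    [QuasiCompact g₀] [QuasiSeparated g₀] [QuasiCompact f₀] [QuasiSeparated f₀] (hQ : Q f₀)
    {X Y : Scheme.{u}} {f : X ⟶ Y} {g : Y ⟶ c.pt} {qY : Y ⟶ Y₀} {qX : X ⟶ X₀}
    (hY : IsPullback qY g g₀ (c.π.app i₀)) (hX : IsPullback qX f f₀ qY) (hf : P f) :
    ∃ (j : I) (φ : j ⟶ i₀), P (pullback.snd f₀ (pullback.fst g₀ (D.map φ))) :=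
  transfer' f₀ g₀ hQ hY hX hf fun f₁ _ _ h₁ sq =>
    hP (stage D g₀) (stageCone D c g₀ hY) (isLimitStageCone D c g₀ hY hc) (Over.mk (𝟙 i₀))
      f₁ h₁ qX f sq hf

end Groth.Agent.EGA43.Limit
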