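import Groth.Agent.EGA43.Limit.Basic
import Mathlib.AlgebraicGeometry.Morphisms.UniversallyInjective
import Mathlib.AlgebraicGeometry.Morphisms.Constructors

/-!
# Descent of surjective, iso, mono, universally injective morphisms (EGA IV, 8.10.5)
-/

universe u

set_option autoImplicit false
set_option backward.isDefEq.respectTransparency false

open CategoryTheory Limits AlgebraicGeometry

namespace Groth.Agent.EGA43.Limit

variable {I : Type u} [SmallCategory I] {D : I ⥤ Scheme.{u}} {c : Cone D} {i₀ : I}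

theorem compactSpace_map [∀ (i j : I) (f : i ⟶ j), IsAffineHom (D.map f)] [CompactSpace (D.obj i₀)]
    (j : Over i₀) : CompactSpace ((Over.forget i₀ ⋙ D).obj j) :=
  QuasiCompact.compactSpace_of_compactSpace (D.map j.hom)

theorem quasiSeparatedSpace_map [∀ (i j : I) (f : i ⟶ j), IsAffineHom (D.map f)]
    [QuasiSeparatedSpace (D.obj i₀)] (j : Over i₀) :
    QuasiSeparatedSpace ((Over.forget i₀ ⋙ D).obj j) :=
  quasiSeparatedSpace_of_quasiSeparated (D.map j.hom)

/-- Properties stable under base change persist along the system. -/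
theorem persist {P : MorphismProperty Scheme.{u}} [P.IsStableUnderBaseChange] {X₀ : Scheme.{u}}
    (f₀ : X₀ ⟶ D.obj i₀) {j k : Over i₀} (φ : j ⟶ k) (h : P (pullback.snd f₀ (D.map k.hom))) :
    P (pullback.snd f₀ (D.map j.hom)) :=
  MorphismProperty.of_isPullback (stage_isPullback D f₀ φ) h

/-- A constructible subset with empty preimage in the limit has empty preimage at some stage. -/
theorem exists_preimage_eq_empty [IsCofiltered I] (hc : IsLimit c)
    [∀ (i j : I) (f : i ⟶ j), IsAffineHom (D.map f)] (i : I) [CompactSpace (D.obj i)]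
    [QuasiSeparatedSpace (D.obj i)] {E : Set (D.obj i)} (hE : Topology.IsConstructible E)
    (he : c.π.app i ⁻¹' E = ∅) :
    ∃ (j : I) (φ : j ⟶ i), D.map φ ⁻¹' E = ∅ := by
  have : Nonempty (D.obj i).affineOpens := ⟨⟨⊥, isAffineOpen_bot _⟩⟩
  revert he
  refine Topology.IsConstructible.induction_of_isTopologicalBasis
    (fun U : (D.obj i).affineOpens => (U.1 : Set (D.obj i))) ?_ (fun U => U.2.isCompact) ?_ ?_ E hE
  · have := (D.obj i).isBasis_affineOpens
    rw [TopologicalSpace.Opens.IsBasis] at this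
    convert this
    ext s
    simp only [Set.mem_range, Set.mem_image, Subtype.exists]
    try exact ⟨fun ⟨U, hU, e⟩ => ⟨U, hU, e⟩, fun ⟨U, hU, e⟩ => ⟨U, hU, e⟩⟩
  · intro U s hs he
    have key : c.π.app i ⁻¹ᵁ U.1 ≤ c.π.app i ⁻¹ᵁ (⨆ V : s, V.1.1) := by
      intro x hx
      by_contra hx'
      have : x ∈ c.π.app i ⁻¹' ((U.1 : Set (D.obj i)) \ ⋃ V ∈ s, (V.1 : Set (D.obj i))) := by
        refine ⟨hx, fun hV => hx' ?_⟩
        obtain ⟨V, hVs, hxV⟩ := Set.mem_iUnion₂.1 hV
        exact TopologicalSpace.Opens.mem_iSup.2 ⟨⟨V, hVs⟩, hxV⟩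
      rw [he] at this
      exact this
    obtain ⟨j, φ, hj⟩ := exists_map_preimage_le_map_preimage D c hc U.2.isCompact key
    refine ⟨j, φ, Set.eq_empty_iff_forall_notMem.2 fun x ⟨hxU, hxV⟩ => hxV ?_⟩
    obtain ⟨⟨V, hVs⟩, hxV'⟩ := TopologicalSpace.Opens.mem_iSup.1 (hj hxU)
    exact Set.mem_iUnion₂.2 ⟨V, hVs, hxV'⟩
  · intro s hs t ht h₁ h₂ he
    rw [Set.preimage_union, Set.union_empty_iff] at he
    obtain ⟨j₁, φ₁, e₁⟩ := h₁ he.1
    obtain ⟨j₂, φ₂, e₂⟩ := h₂ he.2
    obtain ⟨k, ψ₁, ψ₂, e⟩ := IsCofiltered.cospan φ₁ φ₂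
    refine ⟨k, ψ₁ ≫ φ₁, ?_⟩
    rw [Set.preimage_union]
    nth_rw 2 [e]
    simp [Set.preimage_comp, e₁, e₂]

theorem descends_surjective : Descends @LocallyOfFinitePresentation.{u} @Surjective.{u} := by
  intro I _ _ D c hc _ i₀ _ _ X₀ f₀ _ _ hQ X p f sq hf
  have hE : Topology.IsConstructible (Set.range f₀)ᶜ := by
    refine Topology.IsConstructible.compl ?_
    rw [← Set.image_univ]
    have : CompactSpace X₀ := QuasiCompact.compactSpace_of_compactSpace f₀
    exact Scheme.Hom.isConstructible_image f₀ _root_.Topology.IsConstructible.univ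
  have he : c.π.app i₀ ⁻¹' (Set.range f₀)ᶜ = ∅ := by
    rw [Set.preimage_compl, Set.compl_empty_iff, Set.eq_univ_iff_forall]
    intro y
    obtain ⟨x, rfl⟩ := f.surjective y
    exact ⟨p x, by rw [← Scheme.Hom.comp_apply, sq.w]; rfl⟩
  obtain ⟨j, φ, hj⟩ := exists_preimage_eq_empty hc i₀ hE he
  refine ⟨j, φ, ⟨?_⟩⟩
  rw [← Set.range_eq_univ, Scheme.Pullback.range_snd, ← Set.compl_empty_iff, ← Set.preimage_compl,
    hj]

theorem descends_iso : Descends @LocallyOfFinitePresentation.{u}
    (MorphismProperty.isomorphisms Scheme.{u}) := by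
  intro I _ _ D c hc _ i₀ _ _ X₀ f₀ _ _ hQ X p f sq (hf : IsIso f)
  have := compactSpace_map (D := D) (i₀ := i₀)
  have := quasiSeparatedSpace_map (D := D) (i₀ := i₀)
  have : ∀ {a b : Over i₀} (g : a ⟶ b), IsAffineHom ((Over.forget i₀ ⋙ D).map g) :=
    fun g => inferInstanceAs (IsAffineHom (D.map g.left))
  have hc' := (Functor.Initial.isLimitWhiskerEquiv (Over.forget i₀) c).symm hc
  let t : Over.forget i₀ ⋙ D ⟶ (Functor.const (Over i₀)).obj (D.obj i₀) :=
    { app := fun j => D.map j.hom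
      naturality := fun j k φ => by
        show D.map φ.left ≫ D.map k.hom = D.map j.hom ≫ 𝟙 _
        rw [← D.map_comp, Over.w, Category.comp_id] }
  obtain ⟨j, g, hg₁, hg₂⟩ := Scheme.exists_π_app_comp_eq_of_locallyOfFinitePresentation
    (Over.forget i₀ ⋙ D) t f₀ (c.whisker (Over.forget i₀)) hc' (inv f ≫ p) (by
      ext j
      simp only [NatTrans.comp_app, Cone.whisker_π, Functor.whiskerLeft_app, Over.forget_obj, t,
        Functor.const_map_app, c.w, Category.assoc, sq.w, IsIso.inv_hom_id_assoc])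
  let t' : stage D f₀ ⟶ (Functor.const (Over i₀)).obj (D.obj i₀) := stageFst D f₀ ≫
    (Functor.const (Over i₀)).map f₀
  have := hQ
  obtain ⟨k, ψ, hk⟩ := Scheme.exists_hom_comp_eq_comp_of_locallyOfFiniteType (stage D f₀) t' f₀
    (stageCone D c f₀ sq) (isLimitStageCone D c f₀ sq hc)
    (i := j) (pullback.snd f₀ (D.map j.hom) ≫ g) (pullback.fst f₀ (D.map j.hom))
    (by
      simp only [t', NatTrans.comp_app, stageFst, Functor.const_map_app, Category.assoc, hg₂, t]
      exact pullback.condition)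
    (by simp [t', stageFst]) (by
      have e₁ : (stageCone D c f₀ sq).π.app j ≫ pullback.snd f₀ (D.map j.hom) = f ≫ c.π.app j.left :=
        pullback.lift_snd _ _ _
      have e₂ : (stageCone D c f₀ sq).π.app j ≫ pullback.fst f₀ (D.map j.hom) = p :=
        pullback.lift_fst _ _ _
      rw [reassoc_of% e₁, e₂]
      simp only [Cone.whisker_π, Functor.whiskerLeft_app, Over.forget_obj] at hg₁
      rw [hg₁, IsIso.hom_inv_id_assoc])
  refine ⟨k.left, k.hom, ?_⟩
  have hψ : (stage D f₀).map ψ ≫ pullback.fst f₀ (D.map j.hom) = pullback.fst f₀ (D.map k.hom) :=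
    stage_map_fst D f₀ ψ
  have hψ' : (stage D f₀).map ψ ≫ pullback.snd f₀ (D.map j.hom) =
      pullback.snd f₀ (D.map k.hom) ≫ D.map ψ.left := pullback.lift_snd _ _ _
  rw [hψ, reassoc_of% hψ'] at hk
  refine ⟨pullback.lift (D.map ψ.left ≫ g) (𝟙 _) ?_, ?_, ?_⟩
  · simp only [t] at hg₂
    rw [Category.assoc, hg₂, Category.id_comp, ← D.map_comp, Over.w]
  · apply pullback.hom_ext
    · rw [Category.assoc, pullback.lift_fst, hk, Category.id_comp]
    · rw [Category.assoc, pullback.lift_snd, Category.comp_id, Category.id_comp]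
  · exact pullback.lift_snd _ _ _

/-- The diagonal of a base change is a base change of the diagonal. -/
theorem diagonal_pullback_iff {P : MorphismProperty Scheme.{u}} [P.RespectsIso] {X S T : Scheme.{u}}
    (f : X ⟶ S) (ψ : T ⟶ S) :
    P.diagonal (pullback.snd f ψ) ↔
      P (pullback.snd (pullback.diagonal f) (pullback.fst (pullback.snd f f ≫ f) ψ)) := by
  rw [← pullbackSymmetry_hom_comp_fst, MorphismProperty.cancel_left_of_respectsIso P.diagonal,
    MorphismProperty.diagonal_iff, diagonal_pullback_fst,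
    MorphismProperty.cancel_left_of_respectsIso P, MorphismProperty.cancel_right_of_respectsIso P]
  let m := ((Over.pullback ψ).map
    (Over.homMk (pullback.diagonal f) : Over.mk f ⟶ Over.mk (pullback.snd f f ≫ f))).left
  have sq : IsPullback (pullback.fst f ψ) m (pullback.diagonal f)
      (pullback.fst (pullback.snd f f ≫ f) ψ) := by
    refine IsPullback.of_bot ?_ ?_ (IsPullback.of_hasPullback (pullback.snd f f ≫ f) ψ)
    · have e : m ≫ pullback.snd (pullback.snd f f ≫ f) ψ = pullback.snd f ψ :=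
        pullback.lift_snd _ _ _
      rw [e, pullback.diagonal_snd_assoc]
      exact IsPullback.of_hasPullback f ψ
    · exact (pullback.lift_fst _ _ _).symm
  exact P.arrow_mk_iso_iff (Arrow.isoMk sq.isoPullback (Iso.refl _) (by simp [m]))

/-- Descent of `P` gives descent of the property that the diagonal has `P`. -/
theorem Descends.diagonal {P : MorphismProperty Scheme.{u}} [P.RespectsIso]
    (hP : Descends @LocallyOfFinitePresentation.{u} P) :
    Descends @LocallyOfFiniteType.{u} P.diagonal := by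
  intro I _ _ D c hc _ i₀ _ _ X₀ f₀ _ _ hQ X p f sq hf
  have := hQ
  let g₀ := pullback.snd f₀ f₀ ≫ f₀
  have h₁ : LocallyOfFinitePresentation (pullback.diagonal f₀) := by
    have : LocallyOfFinitePresentation (pullback.diagonal f₀ ≫ pullback.fst f₀ f₀) := by
      rw [pullback.diagonal_fst]
      infer_instance
    exact locallyOfFinitePresentation_of_comp _ (pullback.fst f₀ f₀)
  have hf' : P (pullback.snd (pullback.diagonal f₀) (pullback.fst g₀ (c.π.app i₀))) := by
    refine (diagonal_pullback_iff f₀ (c.π.app i₀)).1 ?_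
    exact (P.diagonal.arrow_mk_iso_iff
      (Arrow.isoMk sq.isoPullback (Iso.refl _) (by simp) :
        Arrow.mk f ≅ Arrow.mk (pullback.snd f₀ (c.π.app i₀)))).1 hf
  obtain ⟨j, φ, hj⟩ := hP.transfer hc (pullback.diagonal f₀) g₀ h₁
    (IsPullback.of_hasPullback g₀ (c.π.app i₀))
    (IsPullback.of_hasPullback (pullback.diagonal f₀) (pullback.fst g₀ (c.π.app i₀))) hf'
  exact ⟨j, φ, (diagonal_pullback_iff f₀ (D.map φ)).2 hj⟩

theorem Descends.congr {Q P P' : MorphismProperty Scheme.{u}} (hP : Descends Q P) (e : P = P') :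
    Descends Q P' :=
  e ▸ hP

theorem descends_mono : Descends @LocallyOfFiniteType.{u} (MorphismProperty.monomorphisms Scheme.{u}) :=
  descends_iso.diagonal.congr (by
    ext X Y f
    exact pullback.isIso_diagonal_iff f)

theorem descends_universallyInjective :
    Descends @LocallyOfFiniteType.{u} @UniversallyInjective.{u} :=
  descends_surjective.diagonal.congr (by
    ext X Y f
    exact (UniversallyInjective.iff_diagonal f).symm)

/-- `P` descends over affine bases. -/
def DescendsAffine (Q P : MorphismProperty Scheme.{u}) : Prop :=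
  ∀ ⦃I : Type u⦄ [SmallCategory I] [IsCofiltered I] (D : I ⥤ Scheme.{u}) (c : Cone D) (_ : IsLimit c)
    [∀ (i j : I) (f : i ⟶ j), IsAffineHom (D.map f)] (i₀ : I) [IsAffine (D.obj i₀)]
    {X₀ : Scheme.{u}} (f₀ : X₀ ⟶ D.obj i₀) [QuasiCompact f₀] [QuasiSeparated f₀] (_ : Q f₀)
    {X : Scheme.{u}} (p : X ⟶ X₀) (f : X ⟶ c.pt), IsPullback p f f₀ (c.π.app i₀) → P f →
    ∃ (j : I) (φ : j ⟶ i₀), P (pullback.snd f₀ (D.map φ))

/-- For properties local at the target it suffices to descend over affine bases. -/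
theorem Descends.of_affineBase {Q P : MorphismProperty Scheme.{u}} [IsZariskiLocalAtTarget P]
    [P.IsStableUnderBaseChange] [Q.IsStableUnderBaseChange]
    (h : DescendsAffine Q P) : Descends Q P := by
  intro I _ _ D c hc _ i₀ _ _ X₀ f₀ _ _ hQ X p f sq hf
  classical
  obtain ⟨s, hs⟩ := CompactSpace.elim_nhds_subcover
    (fun x => ((exists_isAffineOpen_mem_and_subset (x := x) (U := ⊤) trivial).choose :
      Set (D.obj i₀)))
    (fun x => (exists_isAffineOpen_mem_and_subset (x := x) (U := ⊤) trivial).choose.2.mem_nhds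
      (exists_isAffineOpen_mem_and_subset (x := x) (U := ⊤) trivial).choose_spec.2.1)
  let U : s → (D.obj i₀).Opens := fun x =>
    (exists_isAffineOpen_mem_and_subset (x := x.1) (U := ⊤) trivial).choose
  have hU : ∀ x, IsAffineOpen (U x) := fun x =>
    (exists_isAffineOpen_mem_and_subset (x := x.1) (U := ⊤) trivial).choose_spec.1
  have hcov : ⨆ x, U x = ⊤ := by
    refine top_le_iff.1 fun y _ => ?_
    obtain ⟨x, hx, hy⟩ := Set.mem_iUnion₂.1 (hs.ge (Set.mem_univ y))
    exact TopologicalSpace.Opens.mem_iSup.2 ⟨⟨x, hx⟩, hy⟩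
  -- local descent
  have H : ∀ x : s, ∃ (j : I) (φ : j ⟶ i₀),
      P (pullback.snd (f₀ ∣_ U x) (pullback.fst (U x).ι (D.map φ))) := by
    intro x
    have : IsAffine (U x).toScheme := hU x
    have hY := IsPullback.of_hasPullback (U x).ι (c.π.app i₀)
    have hX := IsPullback.of_hasPullback (f₀ ∣_ U x) (pullback.fst (U x).ι (c.π.app i₀))
    have hpaste := hX.paste_horiz (isPullback_morphismRestrict f₀ (U x)).flip
    rw [hY.w] at hpaste
    have hsq : IsPullback (sq.lift _ _ (hpaste.w.trans (Category.assoc _ _ _).symm))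
        (pullback.snd (f₀ ∣_ U x) (pullback.fst (U x).ι (c.π.app i₀))) f
        (pullback.snd (U x).ι (c.π.app i₀)) :=
      IsPullback.of_right (by rw [sq.lift_fst]; exact hpaste) (sq.lift_snd _ _ _) sq
    have hf' : P (pullback.snd (f₀ ∣_ U x) (pullback.fst (U x).ι (c.π.app i₀))) :=
      MorphismProperty.of_isPullback hsq hf
    have : IsAffine ((stage D (U x).ι).obj (Over.mk (𝟙 i₀))) := by
      have : IsIso (pullback.fst (U x).ι (D.map (Over.mk (𝟙 i₀)).hom)) := by
        have : IsIso (D.map (Over.mk (𝟙 i₀)).hom) := by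
          show IsIso (D.map (𝟙 i₀))
          rw [D.map_id]
          infer_instance
        exact pullback_fst_iso_of_right_iso _ _
      exact IsAffine.of_isIso (pullback.fst (U x).ι (D.map (Over.mk (𝟙 i₀)).hom))
    exact transfer' (f₀ ∣_ U x) (U x).ι
      (MorphismProperty.of_isPullback (isPullback_morphismRestrict f₀ (U x)).flip hQ) hY hX hf'
      fun f₁ _ _ h₁ sq' => h (stage D (U x).ι) (stageCone D c (U x).ι hY)
        (isLimitStageCone D c (U x).ι hY hc) (Over.mk (𝟙 i₀)) f₁ h₁ _ _ sq' hf'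
  choose j φ hj using H
  obtain ⟨k, hk⟩ := IsCofiltered.inf_objs_exists (Finset.univ.image fun x : s => Over.mk (φ x))
  refine ⟨k.left, k.hom, IsZariskiLocalAtTarget.of_iSup_eq_top (P := P)
    (fun x : s => D.map k.hom ⁻¹ᵁ U x) ?_ fun x => ?_⟩
  · rw [← Scheme.Hom.preimage_iSup, hcov, Scheme.Hom.preimage_top]
  · obtain ⟨χ⟩ := hk (Finset.mem_image_of_mem (fun x : s => Over.mk (φ x)) (Finset.mem_univ x))
    have big := (IsPullback.of_hasPullback (f₀ ∣_ U x) (pullback.fst (U x).ι (D.map (φ x)))).paste_horiz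
      (isPullback_morphismRestrict f₀ (U x)).flip
    have out := (isPullback_morphismRestrict (pullback.snd f₀ (D.map k.hom))
      (D.map k.hom ⁻¹ᵁ U x)).flip.paste_horiz (IsPullback.of_hasPullback f₀ (D.map k.hom))
    let l : (D.map k.hom ⁻¹ᵁ U x).toScheme ⟶ pullback (U x).ι (D.map (φ x)) :=
      pullback.lift (D.map k.hom ∣_ U x) ((D.map k.hom ⁻¹ᵁ U x).ι ≫ D.map χ.left) (by
        rw [morphismRestrict_ι, Category.assoc, ← D.map_comp]
        exact congrArg (fun a => _ ≫ D.map a) (Over.w χ).symm)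
    have hl : l ≫ pullback.fst _ _ ≫ (U x).ι = (D.map k.hom ⁻¹ᵁ U x).ι ≫ D.map k.hom := by
      simp [l, morphismRestrict_ι]
    rw [← hl] at out
    refine MorphismProperty.of_isPullback (IsPullback.of_right ?_
      (big.lift_snd _ _ (out.w.trans (Category.assoc _ _ _).symm)) big) (hj x)
    rw [big.lift_fst]
    exact out

/-- Descent of `P` for a morphism of schemes of finite presentation over a stage. -/
theorem Descends.stage_exists {Q P : MorphismProperty Scheme.{u}} [Q.RespectsIso] [P.RespectsIso]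
    (hP : Descends Q P) [IsCofiltered I] (hc : IsLimit c)
    [∀ (i j : I) (f : i ⟶ j), IsAffineHom (D.map f)]
    [CompactSpace (D.obj i₀)] [QuasiSeparatedSpace (D.obj i₀)]
    {X₀ Y₀ : Scheme.{u}} (f₀ : X₀ ⟶ Y₀) (g₀ : Y₀ ⟶ D.obj i₀)
    [QuasiCompact g₀] [QuasiSeparated g₀] [QuasiCompact f₀] [QuasiSeparated f₀] (hQ : Q f₀)
    {X Y : Scheme.{u}} {f : X ⟶ Y} {g : Y ⟶ c.pt} {qY : Y ⟶ Y₀} {qX : X ⟶ X₀}
    (hY : IsPullback qY g g₀ (c.π.app i₀)) (hX : IsPullback qX f f₀ qY) (hf : P f) :
    ∃ (i : I) (φ : i ⟶ i₀) (Xi Yi : Scheme.{u}) (fi : Xi ⟶ Yi) (gi : Yi ⟶ D.obj i) (pY : Yi ⟶ Y₀)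
      (pX : Xi ⟶ X₀), IsPullback pY gi g₀ (D.map φ) ∧ IsPullback pX fi f₀ pY ∧ P fi := by
  obtain ⟨j, φ, hj⟩ := hP.transfer hc f₀ g₀ hQ hY hX hf
  exact ⟨j, φ, _, _, _, _, _, _, IsPullback.of_hasPullback g₀ (D.map φ),
    IsPullback.of_hasPullback f₀ _, hj⟩

end Groth.Agent.EGA43.Limit
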