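import Groth.Agent.EGA43.Limit.Properties
import Mathlib.AlgebraicGeometry.Morphisms.Immersion
import Mathlib.AlgebraicGeometry.Morphisms.UniversallyOpen
import Mathlib.AlgebraicGeometry.ZariskisMainTheorem

/-!
# Descent of affine, immersive and quasi-finite morphisms (EGA IV, 8.10.5)
-/

universe u

set_option autoImplicit false
set_option backward.isDefEq.respectTransparency false

open CategoryTheory Limits AlgebraicGeometry

namespace Groth.Agent.EGA43.Limit

variable {I : Type u} [SmallCategory I] {D : I ⥤ Scheme.{u}} {c : Cone D} {i₀ : I}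

/-- A base change of a base change is a base change. -/
theorem rebase {P : MorphismProperty Scheme.{u}} [P.RespectsIso] {X₀ : Scheme.{u}}
    (f₀ : X₀ ⟶ D.obj i₀) {j k : I} (φ : j ⟶ i₀) (ψ : k ⟶ j)
    (h : P (pullback.snd (pullback.snd f₀ (D.map φ)) (D.map ψ))) :
    P (pullback.snd f₀ (D.map (ψ ≫ φ))) := by
  have sq := (IsPullback.of_hasPullback (pullback.snd f₀ (D.map φ)) (D.map ψ)).paste_horiz
    (IsPullback.of_hasPullback f₀ (D.map φ))
  rw [← D.map_comp] at sq
  exact (P.arrow_mk_iso_iff (Arrow.isoMk sq.isoPullback (Iso.refl _) (by simp))).1 h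

theorem descendsAffine_isAffineHom : DescendsAffine ⊤ @IsAffineHom.{u} := by
  intro I _ _ D c hc _ i₀ _ X₀ f₀ _ _ hQ X p f sq hf
  have := isAffineHom_π_app D c hc i₀
  have : IsAffine c.pt := isAffine_of_isAffineHom (c.π.app i₀)
  have : IsAffine X := isAffine_of_isAffineHom f
  have : IsAffine (stageCone D c f₀ sq).pt := ‹IsAffine X›
  obtain ⟨j, hj⟩ := Scheme.exists_isAffine_of_isLimit (stage D f₀) (stageCone D c f₀ sq)
    (isLimitStageCone D c f₀ sq hc)
  have : IsAffine (pullback f₀ (D.map j.hom)) := hj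
  have : IsAffine (D.obj j.left) := isAffine_of_isAffineHom (D.map j.hom)
  exact ⟨j.left, j.hom, isAffineHom_of_isAffine _⟩

theorem descends_isAffineHom : Descends ⊤ @IsAffineHom.{u} :=
  Descends.of_affineBase descendsAffine_isAffineHom

/-- A finite type morphism of affine schemes which becomes a closed immersion in the limit is a
closed immersion at some stage. -/
theorem exists_isClosedImmersion_affine [IsCofiltered I] (hc : IsLimit c)
    [∀ (i j : I) (f : i ⟶ j), IsAffineHom (D.map f)] [IsAffine (D.obj i₀)] {X₀ : Scheme.{u}}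
    [IsAffine X₀] (f₀ : X₀ ⟶ D.obj i₀) [LocallyOfFiniteType f₀] {X : Scheme.{u}} (p : X ⟶ X₀)
    (f : X ⟶ c.pt) (sq : IsPullback p f f₀ (c.π.app i₀)) [IsClosedImmersion f] :
    ∃ (j : I) (φ : j ⟶ i₀), IsClosedImmersion (pullback.snd f₀ (D.map φ)) := by
  classical
  have := isAffineHom_π_app D c hc i₀
  have : IsAffine c.pt := isAffine_of_isAffineHom (c.π.app i₀)
  have hD : ∀ j : Over i₀, IsAffine ((Over.forget i₀ ⋙ D).obj j) :=
    fun j => isAffine_of_isAffineHom (D.map j.hom)
  have : ∀ {a b : Over i₀} (g : a ⟶ b), IsAffineHom ((Over.forget i₀ ⋙ D).map g) :=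
    fun g => inferInstanceAs (IsAffineHom (D.map g.left))
  have hc' := (Functor.Initial.isLimitWhiskerEquiv (Over.forget i₀) c).symm hc
  have hft : f₀.appTop.hom.FiniteType :=
    (HasRingHomProperty.iff_of_isAffine (P := @LocallyOfFiniteType.{u})).1 inferInstance
  algebraize [f₀.appTop.hom]
  obtain ⟨s, hs⟩ := (Algebra.FiniteType.out : (⊤ : Subalgebra Γ(D.obj i₀, ⊤) Γ(X₀, ⊤)).FG)
  have hsurj := (IsClosedImmersion.isAffine_surjective_of_isAffine f).2
  -- the generators at finite stages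
  have H : ∀ b : Γ(X₀, ⊤), ∃ (j : Over i₀) (t : Γ(D.obj j.left, ⊤)),
      (pullback.fst f₀ (D.map j.hom)).appTop b = (pullback.snd f₀ (D.map j.hom)).appTop t := by
    intro b
    obtain ⟨y, hy⟩ := hsurj (p.appTop b)
    obtain ⟨j, t, ht⟩ := exists_appTop_π_eq_of_isAffine_of_isLimit (Over.forget i₀ ⋙ D)
      (c.whisker (Over.forget i₀)) hc' y
    obtain ⟨k, ψ, hk⟩ := exists_appTop_map_eq_zero_of_isLimit (stage D f₀) (stageCone D c f₀ sq)
      (isLimitStageCone D c f₀ sq hc) (i := j)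
      ((pullback.fst f₀ (D.map j.hom)).appTop b - (pullback.snd f₀ (D.map j.hom)).appTop t) (by
        have e₁ : (stageCone D c f₀ sq).π.app j ≫ pullback.snd f₀ (D.map j.hom) =
          f ≫ c.π.app j.left := pullback.lift_snd _ _ _
        have e₂ : (stageCone D c f₀ sq).π.app j ≫ pullback.fst f₀ (D.map j.hom) = p :=
          pullback.lift_fst _ _ _
        refine (map_sub _ _ _).trans (sub_eq_zero.2 ?_)
        refine (congr($(congrArg Scheme.Hom.appTop e₂) b)).trans ?_
        refine Eq.trans ?_ (congr($(congrArg Scheme.Hom.appTop e₁) t)).symm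
        rw [Scheme.Hom.comp_appTop]
        exact (hy.symm.trans (congrArg f.appTop ht.symm)))
    refine ⟨k, (D.map ψ.left).appTop t, ?_⟩
    rw [map_sub, sub_eq_zero] at hk
    have e₁ : (stage D f₀).map ψ ≫ pullback.snd f₀ (D.map j.hom) =
        pullback.snd f₀ (D.map k.hom) ≫ D.map ψ.left := pullback.lift_snd _ _ _
    refine (congr($(congrArg Scheme.Hom.appTop (stage_map_fst D f₀ ψ)) b)).symm.trans ?_
    refine Eq.trans hk ?_
    exact congr($(congrArg Scheme.Hom.appTop e₁) t)
  choose j t hjt using H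
  obtain ⟨k, hk⟩ := IsCofiltered.inf_objs_exists (insert (Over.mk (𝟙 i₀)) (s.image j))
  refine ⟨k.left, k.hom, ?_⟩
  have : IsAffine (D.obj k.left) := hD k
  have hp := isPushout_appTop_of_isPullback (IsPullback.of_hasPullback f₀ (D.map k.hom))
  have : IsAffine (pullback f₀ (D.map k.hom)) := .of_isPullback (IsPullback.of_hasPullback _ _)
  refine IsClosedImmersion.of_surjective_of_isAffine _ ?_
  let R := (pullback.snd f₀ (D.map k.hom)).appTop.hom.range
  have hgen : ∀ b : Γ(X₀, ⊤), (pullback.fst f₀ (D.map k.hom)).appTop b ∈ R := by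
    intro b
    have hb : b ∈ Algebra.adjoin Γ(D.obj i₀, ⊤) (s : Set Γ(X₀, ⊤)) := hs ▸ Algebra.mem_top
    induction hb using Algebra.adjoin_induction with
    | mem b hb =>
      obtain ⟨χ⟩ := hk (Finset.mem_insert_of_mem (Finset.mem_image_of_mem j hb))
      refine ⟨(D.map χ.left).appTop (t b), ?_⟩
      have e₁ : (stage D f₀).map χ ≫ pullback.snd f₀ (D.map (j b).hom) =
          pullback.snd f₀ (D.map k.hom) ≫ D.map χ.left := pullback.lift_snd _ _ _
      refine (congr($(congrArg Scheme.Hom.appTop e₁) (t b))).symm.trans ?_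
      refine (congrArg ((stage D f₀).map χ).appTop (hjt b)).symm.trans ?_
      exact congr($(congrArg Scheme.Hom.appTop (stage_map_fst D f₀ χ)) b)
    | algebraMap r =>
      exact ⟨(D.map k.hom).appTop r, congr($(hp.w) r).symm⟩
    | add a b _ _ ha hb => rw [map_add]; exact R.add_mem ha hb
    | mul a b _ _ ha hb => rw [map_mul]; exact R.mul_mem ha hb
  let φ₁ : Γ(X₀, ⊤) ⟶ CommRingCat.of R :=
    CommRingCat.ofHom ((pullback.fst f₀ (D.map k.hom)).appTop.hom.codRestrict R hgen)
  let φ₂ : Γ(D.obj k.left, ⊤) ⟶ CommRingCat.of R :=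
    CommRingCat.ofHom ((pullback.snd f₀ (D.map k.hom)).appTop.hom.rangeRestrict)
  let incl : CommRingCat.of R ⟶ Γ(pullback f₀ (D.map k.hom), ⊤) := CommRingCat.ofHom R.subtype
  have hw : f₀.appTop ≫ φ₁ = (D.map k.hom).appTop ≫ φ₂ := by
    ext r
    exact congr($(hp.w) r)
  intro z
  have hid : hp.desc φ₁ φ₂ hw ≫ incl = 𝟙 _ := by
    apply hp.hom_ext
    · rw [IsPushout.inl_desc_assoc, Category.comp_id]; rfl
    · rw [IsPushout.inr_desc_assoc, Category.comp_id]; rfl
  obtain ⟨y, hy⟩ := ((hp.desc φ₁ φ₂ hw) z).2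
  exact ⟨y, hy.trans congr($hid z)⟩

theorem descendsAffine_isClosedImmersion :
    DescendsAffine @LocallyOfFiniteType.{u} @IsClosedImmersion.{u} := by
  intro I _ _ D c hc _ i₀ _ X₀ f₀ _ _ hQ X p f sq hf
  obtain ⟨j, φ, hj⟩ := descendsAffine_isAffineHom D c hc i₀ f₀ trivial p f sq
    (inferInstance : IsAffineHom f)
  have : IsAffine (D.obj j) := isAffine_of_isAffineHom (D.map φ)
  have : IsAffine (pullback f₀ (D.map φ)) :=
    isAffine_of_isAffineHom (pullback.snd f₀ (D.map φ))
  have : LocallyOfFiniteType (pullback.snd f₀ (D.map φ)) :=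
    MorphismProperty.pullback_snd _ _ hQ
  obtain ⟨k, ψ, hk⟩ := exists_isClosedImmersion_affine hc (pullback.snd f₀ (D.map φ))
    _ f (stageCone_isPullback D c f₀ sq (Over.mk φ))
  exact ⟨k, ψ ≫ φ, rebase f₀ φ ψ hk⟩

theorem descends_isClosedImmersion :
    Descends @LocallyOfFiniteType.{u} @IsClosedImmersion.{u} :=
  Descends.of_affineBase descendsAffine_isClosedImmersion

/-- An open containing the image of the limit contains the image of some stage. -/
theorem exists_preimage_eq_top [IsCofiltered I] (hc : IsLimit c)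
    [∀ (i j : I) (f : i ⟶ j), IsAffineHom (D.map f)] [CompactSpace (D.obj i₀)] {X₀ : Scheme.{u}}
    (f₀ : X₀ ⟶ D.obj i₀) [QuasiCompact f₀] {X : Scheme.{u}} (p : X ⟶ X₀) (f : X ⟶ c.pt)
    (sq : IsPullback p f f₀ (c.π.app i₀)) {j : I} (φ : j ⟶ i₀)
    (V : (pullback f₀ (D.map φ)).Opens)
    (hV : ∀ x, (stageCone D c f₀ sq).π.app (Over.mk φ) x ∈ V) :
    ∃ (k : Over i₀) (ψ : k ⟶ Over.mk φ), (stage D f₀).map ψ ⁻¹ᵁ V = ⊤ :=
  exists_map_eq_top _ _ (isLimitStageCone D c f₀ sq hc) (i := Over.mk φ) V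
    (top_le_iff.1 fun x _ => hV x)

/-- If the limit factors through a quasi-compact open `V` of the base, descend the factored map. -/
theorem Descends.comp_open {Q P R : MorphismProperty Scheme.{u}} [Q.RespectsIso] [P.RespectsIso]
    [R.RespectsIso] [Q.IsStableUnderBaseChange] (hP : Descends Q P)
    (hR : ∀ {A B C : Scheme.{u}} (a : A ⟶ B) (b : B ⟶ C) [IsOpenImmersion b], P a → R (a ≫ b))
    [IsCofiltered I] (hc : IsLimit c)
    [∀ (i j : I) (f : i ⟶ j), IsAffineHom (D.map f)]
    [CompactSpace (D.obj i₀)] [QuasiSeparatedSpace (D.obj i₀)]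
    {X₀ : Scheme.{u}} (f₀ : X₀ ⟶ D.obj i₀) [QuasiCompact f₀] [QuasiSeparated f₀] (hQ : Q f₀)
    {X : Scheme.{u}} (p : X ⟶ X₀) (f : X ⟶ c.pt) (sq : IsPullback p f f₀ (c.π.app i₀))
    (j : I) (φ : j ⟶ i₀) (V : (D.obj j).Opens) (hVc : IsCompact (V : Set (D.obj j)))
    (hV : ∀ x, f x ∈ c.π.app j ⁻¹ᵁ V)
    (hf : ∀ (f' : X ⟶ pullback V.ι (c.π.app j)), f' ≫ pullback.snd _ _ = f → P f') :
    ∃ (k : I) (φ : k ⟶ i₀), R (pullback.snd f₀ (D.map φ)) := by
  have := compactSpace_map (D := D) (i₀ := i₀)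
  -- the image of some stage is contained in `V`
  obtain ⟨k, ψ, hk⟩ := exists_preimage_eq_top hc f₀ p f sq φ (pullback.snd f₀ (D.map φ) ⁻¹ᵁ V) (by
    intro x
    show ((stageCone D c f₀ sq).π.app (Over.mk φ) ≫ pullback.snd f₀ (D.map φ)) x ∈ V
    rw [show (stageCone D c f₀ sq).π.app (Over.mk φ) ≫ pullback.snd f₀ (D.map φ) =
      f ≫ c.π.app j from pullback.lift_snd _ _ _]
    exact hV x)
  let V' : (D.obj k.left).Opens := D.map ψ.left ⁻¹ᵁ V
  let f₁ := pullback.snd f₀ (D.map k.hom)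
  have hV' : ∀ x, f₁ x ∈ V' := by
    intro x
    have := hk.ge (Set.mem_univ x)
    have e : (stage D f₀).map ψ ≫ pullback.snd f₀ (D.map φ) =
        pullback.snd f₀ (D.map k.hom) ≫ D.map ψ.left := pullback.lift_snd _ _ _
    show (f₁ ≫ D.map ψ.left) x ∈ V
    rw [← e]
    exact this
  let h : pullback f₀ (D.map k.hom) ⟶ V'.toScheme :=
    IsOpenImmersion.lift V'.ι f₁ (by rw [Scheme.Opens.range_ι]; exact Set.range_subset_iff.2 hV')
  have hh : h ≫ V'.ι = f₁ := IsOpenImmersion.lift_fac _ _ _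
  have : CompactSpace (D.obj k.left) := QuasiCompact.compactSpace_of_compactSpace (D.map k.hom)
  have : QuasiSeparatedSpace (D.obj k.left) := quasiSeparatedSpace_of_quasiSeparated (D.map k.hom)
  have : CompactSpace V'.toScheme :=
    isCompact_iff_compactSpace.1 (QuasiCompact.isCompact_preimage (f := D.map ψ.left) _ V.2 hVc)
  have : QuasiCompact V'.ι := quasiCompact_of_compactSpace _
  have : QuasiCompact (h ≫ V'.ι) := hh ▸ MorphismProperty.pullback_snd _ _ ‹QuasiCompact f₀›
  have : QuasiSeparated (h ≫ V'.ι) := hh ▸ MorphismProperty.pullback_snd _ _ ‹QuasiSeparated f₀›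
  have : QuasiCompact h := QuasiCompact.of_comp h V'.ι
  have : QuasiSeparated h := QuasiSeparated.of_comp h V'.ι
  have hQh : Q h := by
    refine MorphismProperty.of_isPullback (f := V'.ι) (f' := 𝟙 _) (g' := h) ?_
      (MorphismProperty.pullback_snd (P := Q) f₀ (D.map k.hom) hQ)
    refine ⟨⟨by rw [Category.id_comp, hh]⟩, ⟨PullbackCone.IsLimit.mk _ (fun s => s.fst)
      (fun s => Category.comp_id _) (fun s => ?_) fun s m h₁ _ => ?_⟩⟩
    · rw [← cancel_mono V'.ι, Category.assoc, hh]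
      exact s.condition
    · rwa [Category.comp_id] at h₁
  have sq₁ := stageCone_isPullback D c f₀ sq k
  have hY := IsPullback.of_hasPullback V'.ι (c.π.app k.left)
  let p' := (stageCone D c f₀ sq).π.app k
  let f' : X ⟶ pullback V'.ι (c.π.app k.left) := pullback.lift (p' ≫ h) f (by
    rw [Category.assoc, hh, sq₁.w])
  have hX : IsPullback p' f' h (pullback.fst V'.ι (c.π.app k.left)) := by
    refine IsPullback.of_bot ?_ (pullback.lift_fst _ _ _).symm hY
    rw [pullback.lift_snd, hh]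
    exact sq₁
  -- compare with `V`
  let m : pullback V'.ι (c.π.app k.left) ⟶ pullback V.ι (c.π.app j) :=
    pullback.map _ _ _ _ (D.map ψ.left ∣_ V) (𝟙 _) (D.map ψ.left) (morphismRestrict_ι _ _).symm
      (by rw [Category.id_comp, c.w])
  have hm : IsPullback (pullback.fst V'.ι (c.π.app k.left) ≫ (D.map ψ.left ∣_ V))
      (pullback.snd V'.ι (c.π.app k.left)) V.ι (c.π.app j) := by
    have hj : c.π.app k.left ≫ D.map ψ.left = c.π.app j := c.w ψ.left
    rw [← hj]
    exact hY.paste_horiz (isPullback_morphismRestrict _ _)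
  have : IsIso m := by
    have e : m = hm.isoPullback.hom := by apply pullback.hom_ext <;> simp [m]
    rw [e]
    infer_instance
  have hf' : P f' := by
    refine (P.cancel_right_of_respectsIso f' m).1 (hf _ ?_)
    simp [f', m]
  obtain ⟨l, χ, hl⟩ := hP.transfer hc h V'.ι hQh hY hX hf'
  refine ⟨l, χ ≫ k.hom, rebase f₀ k.hom χ ?_⟩
  have sq₂ := (IsPullback.of_hasPullback h (pullback.fst V'.ι (D.map χ))).paste_vert
    (IsPullback.of_hasPullback V'.ι (D.map χ))
  rw [hh] at sq₂
  exact (R.arrow_mk_iso_iff (Arrow.isoMk sq₂.isoPullback (Iso.refl _) (by simp [f₁]) :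
    Arrow.mk (pullback.snd h (pullback.fst V'.ι (D.map χ)) ≫ pullback.snd V'.ι (D.map χ)) ≅
      Arrow.mk (pullback.snd f₁ (D.map χ)))).1 (hR _ _ hl)

theorem descends_isOpenImmersion :
    Descends @LocallyOfFinitePresentation.{u} @IsOpenImmersion.{u} := by
  intro I _ _ D c hc _ i₀ _ _ X₀ f₀ _ _ hQ X p f sq hf
  have : QuasiCompact f := MorphismProperty.of_isPullback sq ‹QuasiCompact f₀›
  have := isAffineHom_π_app D c hc i₀
  have : CompactSpace c.pt := QuasiCompact.compactSpace_of_compactSpace (c.π.app i₀)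
  have : CompactSpace X := QuasiCompact.compactSpace_of_compactSpace f
  have := compactSpace_map (D := D) (i₀ := i₀)
  have : ∀ {a b : Over i₀} (g : a ⟶ b), IsAffineHom ((Over.forget i₀ ⋙ D).map g) :=
    fun g => inferInstanceAs (IsAffineHom (D.map g.left))
  obtain ⟨j, V, hVc, hV⟩ := exists_preimage_eq (Over.forget i₀ ⋙ D) (c.whisker (Over.forget i₀))
    ((Functor.Initial.isLimitWhiskerEquiv (Over.forget i₀) c).symm hc) f.opensRange
    (isCompact_range f.continuous)
  refine descends_iso.comp_open (R := @IsOpenImmersion.{u}) ?_ hc f₀ hQ p f sq j.left j.hom V hVc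
    (fun x => ?_) fun f' hf' => ?_
  · intro A B C a b _ (ha : IsIso a)
    infer_instance
  · exact hV.ge ⟨x, rfl⟩
  · have : IsOpenImmersion (f' ≫ pullback.snd V.ι (c.π.app j.left)) := hf' ▸ hf
    have : IsOpenImmersion f' := IsOpenImmersion.of_comp f' (pullback.snd V.ι (c.π.app j.left))
    refine isIso_of_isOpenImmersion_of_opensRange_eq_top f' (top_le_iff.1 fun y _ => ?_)
    have hy : pullback.snd V.ι (c.π.app j.left) y ∈ Set.range f := by
      refine hV.le ?_
      show (pullback.snd V.ι (c.π.app j.left) ≫ c.π.app j.left) y ∈ V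
      rw [← pullback.condition]
      exact (pullback.fst V.ι (c.π.app j.left) y).2
    obtain ⟨x, hx⟩ := hy
    refine ⟨x, (pullback.snd V.ι (c.π.app j.left)).isOpenEmbedding.injective ?_⟩
    rw [← Scheme.Hom.comp_apply, hf']
    exact hx

theorem descends_isImmersion :
    Descends @LocallyOfFiniteType.{u} @IsImmersion.{u} := by
  intro I _ _ D c hc _ i₀ _ _ X₀ f₀ _ _ hQ X p f sq hf
  have : QuasiCompact f := MorphismProperty.of_isPullback sq ‹QuasiCompact f₀›
  have := isAffineHom_π_app D c hc i₀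
  have : CompactSpace c.pt := QuasiCompact.compactSpace_of_compactSpace (c.π.app i₀)
  have : CompactSpace X := QuasiCompact.compactSpace_of_compactSpace f
  have := compactSpace_map (D := D) (i₀ := i₀)
  have : ∀ {a b : Over i₀} (g : a ⟶ b), IsAffineHom ((Over.forget i₀ ⋙ D).map g) :=
    fun g => inferInstanceAs (IsAffineHom (D.map g.left))
  -- a quasi-compact open neighbourhood in which the image is closed
  obtain ⟨U, hUc, hU, hUle⟩ : ∃ U : c.pt.Opens, IsCompact (U : Set c.pt) ∧
      (∀ x, f x ∈ U) ∧ U ≤ f.coborderRange := by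
    obtain ⟨s, hs, hsf, hle⟩ : ∃ s ⊆ {W : c.pt.Opens | IsAffineOpen W ∧ W ≤ f.coborderRange},
        s.Finite ∧ Set.range f ⊆ ⋃ W ∈ s, (W : Set c.pt) := by
      refine (isCompact_range f.continuous).elim_finite_subcover_image (fun W _ => W.2) ?_
      rintro _ ⟨x, rfl⟩
      have hx : f x ∈ f.coborderRange := subset_coborder ⟨x, rfl⟩
      obtain ⟨W, hW, hxW, hWle⟩ := exists_isAffineOpen_mem_and_subset hx
      exact Set.mem_iUnion₂.2 ⟨W, ⟨hW, hWle⟩, hxW⟩
    refine ⟨⟨⋃ W ∈ s, (W : Set c.pt), isOpen_biUnion fun W _ => W.2⟩,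
      hsf.isCompact_biUnion fun W hW => (hs hW).1.isCompact, fun x => hle ⟨x, rfl⟩, ?_⟩
    exact fun y hy => by
      obtain ⟨W, hW, hyW⟩ := Set.mem_iUnion₂.1 hy
      exact (hs hW).2 hyW
  obtain ⟨j, V, hVc, hV⟩ := exists_preimage_eq (Over.forget i₀ ⋙ D) (c.whisker (Over.forget i₀))
    ((Functor.Initial.isLimitWhiskerEquiv (Over.forget i₀) c).symm hc) U hUc
  refine descends_isClosedImmersion.comp_open (R := @IsImmersion.{u}) ?_ hc f₀ hQ p f sq j.left
    j.hom V hVc (fun x => ?_) fun f' hf' => ?_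
  · intro A B C a b _ (ha : IsClosedImmersion a)
    infer_instance
  · exact hV.ge (hU x)
  · have : IsImmersion (f' ≫ pullback.snd V.ι (c.π.app j.left)) := hf' ▸ hf
    have : IsImmersion f' := IsImmersion.of_comp f' (pullback.snd V.ι (c.π.app j.left))
    refine IsClosedImmersion.of_isPreimmersion f' ?_
    let ι' := pullback.snd V.ι (c.π.app j.left)
    have e : Set.range f' = ι' ⁻¹' Set.range f := by
      ext y
      refine ⟨fun ⟨x, hx⟩ => ⟨x, ?_⟩, fun ⟨x, hx⟩ => ⟨x, ι'.isOpenEmbedding.injective ?_⟩⟩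
      · rw [← hf', Scheme.Hom.comp_apply, hx]; rfl
      · rw [← hx, ← hf']; rfl
    have hle : ∀ y, ι' y ∈ coborder (Set.range f) := by
      intro y
      refine hUle (hV.le ?_)
      show (pullback.snd V.ι (c.π.app j.left) ≫ c.π.app j.left) y ∈ V
      rw [← pullback.condition]
      exact (pullback.fst V.ι (c.π.app j.left) y).2
    have hco : IsClosed ((↑) ⁻¹' Set.range f : Set (coborder (Set.range f))) :=
      isClosed_preimage_val_coborder
    rw [e]
    exact hco.preimage (ι'.continuous.subtype_mk hle)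

/-- Quasi-finiteness at a point descends along base change. -/
theorem quasiFiniteAt_of_isPullback {P X Y Z : Scheme.{u}} {fst : P ⟶ X} {snd : P ⟶ Y}
    {f : X ⟶ Z} {g : Y ⟶ Z} (h : IsPullback fst snd f g) [LocallyOfFiniteType f] {z : P}
    (hz : snd.QuasiFiniteAt z) : f.QuasiFiniteAt (fst z) := by
  have : LocallyOfFiniteType snd := MorphismProperty.of_isPullback h ‹LocallyOfFiniteType f›
  rw [Scheme.Hom.quasiFiniteAt_iff_isOpen_singleton_asFiber] at hz ⊢
  have key : ∀ (y : Z) (w : f.fiber y), f.fiberι y w = fst z → IsOpen ({w} : Set (f.fiber y)) →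
      IsOpen ({f.asFiber (fst z)} : Set (f.fiber (f (fst z)))) := by
    intro y w hw ho
    have hy : y = f (fst z) := by
      rw [← hw]
      have := f.range_fiberι y ▸ Set.mem_range_self (f := f.fiberι y) w
      exact (Set.mem_singleton_iff.1 this).symm
    subst hy
    have : w = f.asFiber (fst z) :=
      (f.fiberι _).isEmbedding.injective (by rw [hw, Scheme.Hom.fiberι_asFiber])
    exact this ▸ ho
  let π : snd.fiber (snd z) ⟶ f.fiber (g (snd z)) :=
    pullback.map _ _ _ _ fst (Spec.map (g.residueFieldMap (snd z))) g h.w.symm (by simp)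
  have : UniversallyOpen π :=
    MorphismProperty.of_isPullback (isPullback_fiberToSpecResidueField_of_isPullback h (snd z)).flip
      inferInstance
  refine key _ (π (snd.asFiber z)) ?_ ?_
  · have e : π ≫ f.fiberι _ = snd.fiberι _ ≫ fst := pullback.lift_fst _ _ _
    rw [← Scheme.Hom.comp_apply, e, Scheme.Hom.comp_apply, Scheme.Hom.fiberι_asFiber]
  · simpa using π.isOpenMap _ hz

theorem descends_locallyQuasiFinite :
    Descends @LocallyOfFiniteType.{u} @LocallyQuasiFinite.{u} := by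
  intro I _ _ D c hc _ i₀ _ _ X₀ f₀ _ _ hQ X p f sq hf
  have := hQ
  have := hf
  obtain ⟨k, ψ, hk⟩ := exists_preimage_eq_top hc f₀ p f sq (𝟙 i₀)
    (pullback.fst f₀ (D.map (𝟙 i₀)) ⁻¹ᵁ f₀.quasiFiniteLocus) (fun x => by
      show ((stageCone D c f₀ sq).π.app (Over.mk (𝟙 i₀)) ≫ pullback.fst f₀ (D.map (𝟙 i₀))) x ∈
        f₀.quasiFiniteLocus
      rw [show (stageCone D c f₀ sq).π.app (Over.mk (𝟙 i₀)) ≫ pullback.fst f₀ (D.map (𝟙 i₀)) = p
        from pullback.lift_fst _ _ _]
      exact quasiFiniteAt_of_isPullback sq (f.quasiFiniteAt x))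
  refine ⟨k.left, k.hom, ?_⟩
  let L := f₀.quasiFiniteLocus
  have hL : ∀ x, pullback.fst f₀ (D.map k.hom) x ∈ L := by
    intro x
    have := hk.ge (Set.mem_univ x)
    rw [← stage_map_fst D f₀ ψ]
    exact this
  let l : pullback f₀ (D.map k.hom) ⟶ pullback (L.ι ≫ f₀) (D.map k.hom) :=
    pullback.lift (IsOpenImmersion.lift L.ι (pullback.fst f₀ (D.map k.hom))
        (by rw [Scheme.Opens.range_ι]; exact Set.range_subset_iff.2 hL))
      (pullback.snd f₀ (D.map k.hom))
      (by rw [IsOpenImmersion.lift_fac_assoc, pullback.condition])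
  let m : pullback (L.ι ≫ f₀) (D.map k.hom) ⟶ pullback f₀ (D.map k.hom) :=
    pullback.map (L.ι ≫ f₀) (D.map k.hom) f₀ (D.map k.hom) L.ι (𝟙 _) (𝟙 _) (by simp) (by simp)
  have hl : l ≫ m = 𝟙 _ := by
    apply pullback.hom_ext <;> simp [l, m]
  have : IsImmersion l := by
    have : IsImmersion (l ≫ m) := by rw [hl]; infer_instance
    exact IsImmersion.of_comp l m
  have e : pullback.snd f₀ (D.map k.hom) = l ≫ pullback.snd (L.ι ≫ f₀) (D.map k.hom) := by
    simp [l]
  rw [e]
  infer_instance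

/-- Separatedness descends, with no finiteness hypothesis. -/
theorem descends_isSeparated : Descends ⊤ @IsSeparated.{u} := by
  intro I _ _ D c hc _ i₀ _ _ X₀ f₀ _ _ hQ X p f sq hf
  let g₀ := pullback.snd f₀ f₀ ≫ f₀
  have h₁ : LocallyOfFiniteType (pullback.diagonal f₀) := inferInstance
  have hf' : IsClosedImmersion (pullback.snd (pullback.diagonal f₀)
      (pullback.fst g₀ (c.π.app i₀))) := by
    refine (diagonal_pullback_iff (P := @IsClosedImmersion.{u}) f₀ (c.π.app i₀)).1 ?_
    refine ((MorphismProperty.diagonal @IsClosedImmersion.{u}).arrow_mk_iso_iff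
      (Arrow.isoMk sq.isoPullback (Iso.refl _) (by simp) :
        Arrow.mk f ≅ Arrow.mk (pullback.snd f₀ (c.π.app i₀)))).1 ?_
    exact hf.1
  obtain ⟨j, φ, hj⟩ := descends_isClosedImmersion.transfer hc (pullback.diagonal f₀) g₀ h₁
    (IsPullback.of_hasPullback g₀ (c.π.app i₀))
    (IsPullback.of_hasPullback (pullback.diagonal f₀) (pullback.fst g₀ (c.π.app i₀))) hf'
  exact ⟨j, φ, ⟨(diagonal_pullback_iff (P := @IsClosedImmersion.{u}) f₀ (D.map φ)).2 hj⟩⟩

end Groth.Agent.EGA43.Limit
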