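import Groth.Agent.EGA43.Limit.Immersions
import Groth.Prelude.Def_Mor2
import Mathlib.AlgebraicGeometry.QuasiAffine

/-!
# Quasi-affine morphisms: locality, base change, descent along limits
-/

universe u

set_option autoImplicit false
set_option backward.isDefEq.respectTransparency false

open CategoryTheory Limits AlgebraicGeometry TopologicalSpace

namespace Groth.Agent.EGA43.Limit

variable {X Y : Scheme.{u}}

/-- A scheme covered by finitely many quasi-affine basic opens of global functions is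
quasi-affine. -/
theorem isQuasiAffine_of_basicOpen {ι : Type*} [Finite ι] (r : ι → Γ(X, ⊤))
    (hcov : ⨆ i, X.basicOpen (r i) = ⊤)
    (h : ∀ i, Scheme.IsQuasiAffine (X.basicOpen (r i) : Scheme.{u})) : X.IsQuasiAffine := by
  have : CompactSpace X := by
    rw [← isCompact_univ_iff, ← Opens.coe_top, ← hcov, Opens.coe_iSup]
    exact isCompact_iUnion fun i =>
      isCompact_iff_compactSpace.2 (inferInstanceAs (CompactSpace (X.basicOpen (r i)).toScheme))
  have : QuasiSeparatedSpace X :=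
    .of_isOpenCover (U := fun i => X.basicOpen (r i)) hcov (fun i => isRetrocompact_basicOpen _)
      fun i => (isQuasiSeparated_iff_quasiSeparatedSpace _ (X.basicOpen (r i)).2).2
        (inferInstanceAs (QuasiSeparatedSpace (X.basicOpen (r i)).toScheme))
  refine .of_forall_exists_mem_basicOpen _ fun x => ?_
  obtain ⟨i, hi⟩ := Opens.mem_iSup.1 (hcov.ge (Set.mem_univ x))
  let U := X.basicOpen (r i)
  have := h i
  obtain ⟨_, ⟨_, ⟨t, ht, rfl⟩, rfl⟩, hxt, -⟩ :=
    (Scheme.IsQuasiAffine.isBasis_basicOpen U.toScheme).exists_subset_of_mem_open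
      (Set.mem_univ (⟨x, hi⟩ : U.toScheme)) isOpen_univ
  let a : Γ(X, U) := U.topIso.hom t
  have haffine : IsAffineOpen (X.basicOpen a) ∧ x ∈ X.basicOpen a := by
    have e : U.ι ''ᵁ U.toScheme.basicOpen t = X.basicOpen a := by
      rw [Scheme.image_basicOpen]
      simp [a, Scheme.Opens.topIso_hom]
      exact (X.basicOpen_res_eq t _).symm
    refine ⟨e ▸ ht.image_of_isOpenImmersion U.ι, e ▸ ?_⟩
    exact ⟨⟨x, hi⟩, hxt, rfl⟩
  have := isLocalization_basicOpen_of_qcqs isCompact_univ isQuasiSeparated_univ (r i)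
  obtain ⟨⟨s, m⟩, hs⟩ := IsLocalization.surj (Submonoid.powers (r i)) a
  refine ⟨s * r i, ?_⟩
  have hu : IsUnit (algebraMap Γ(X, ⊤) Γ(X, U) m) :=
    IsLocalization.map_units (M := Submonoid.powers (r i)) Γ(X, U) m
  have e : X.basicOpen (s * r i) = X.basicOpen a := by
    rw [Scheme.basicOpen_mul]
    have h₁ : X.basicOpen (algebraMap Γ(X, ⊤) Γ(X, U) s) = U ⊓ X.basicOpen s :=
      X.basicOpen_res s _
    rw [inf_comm, ← h₁, ← hs, Scheme.basicOpen_mul, Scheme.basicOpen_of_isUnit _ hu]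
    exact inf_eq_left.2 (X.basicOpen_le a)
  rw [e]
  exact haffine

/-- If the target is covered by affine opens with quasi-affine preimages, the morphism is
quasi-affine. -/
theorem isQuasiAffine_of_cover (f : X ⟶ Y) [QuasiCompact f] {ι : Type*} (U : ι → Y.Opens)
    (hU : ⨆ i, U i = ⊤) (haff : ∀ i, IsAffineOpen (U i))
    (h : ∀ i, Scheme.IsQuasiAffine (f ⁻¹ᵁ U i : Scheme.{u})) :
    Mor2.IsQuasiAffine f := by
  refine ⟨inferInstance, fun V hV => ?_⟩
  have H : ∀ y : V, ∃ r : Γ(Y, V), y.1 ∈ Y.basicOpen r ∧ ∃ i, Y.basicOpen r ≤ U i := by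
    intro y
    obtain ⟨i, hi⟩ := Opens.mem_iSup.1 (hU.ge (Set.mem_univ y.1))
    obtain ⟨r, hr, hy⟩ := hV.exists_basicOpen_le (V := U i) ⟨y.1, hi⟩ y.2
    exact ⟨r, hy, i, hr⟩
  choose r hr i hi using H
  obtain ⟨s, hs⟩ := hV.isCompact.elim_finite_subcover (fun y : V => (Y.basicOpen (r y) : Set Y))
    (fun y => (Y.basicOpen (r y)).2) fun y hy => Set.mem_iUnion.2 ⟨⟨y, hy⟩, hr _⟩
  let W := f ⁻¹ᵁ V
  let t : s → Γ(W.toScheme, ⊤) := fun y => W.topIso.inv (f.app V (r y))
  have ht : ∀ y : s, W.ι ''ᵁ W.toScheme.basicOpen (t y) = f ⁻¹ᵁ Y.basicOpen (r y) := by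
    intro y
    rw [Scheme.image_basicOpen, Scheme.preimage_basicOpen]
    have : (W.ι.appIso ⊤).inv (W.topIso.inv (f.app V (r y))) =
        X.presheaf.map (eqToHom W.ι_image_top).op (f.app V (r y)) := by
      simp [Scheme.Opens.topIso_inv]
      rfl
    rw [this, Scheme.basicOpen_res_eq]
  refine isQuasiAffine_of_basicOpen t ?_ fun y => ?_
  · apply W.ι.image_injective
    show W.ι ''ᵁ _ = W.ι ''ᵁ ⊤
    rw [Scheme.Hom.image_iSup]
    refine (iSup_congr ht).trans ?_
    rw [← Scheme.Hom.preimage_iSup, Scheme.Opens.ι_image_top]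
    refine le_antisymm (fun x hx => ?_) fun x hx => ?_
    · obtain ⟨y, hy⟩ := Opens.mem_iSup.1 hx
      exact Y.basicOpen_le (r y) hy
    · obtain ⟨y, hys, hy⟩ := Set.mem_iUnion₂.1 (hs hx)
      exact Opens.mem_iSup.2 ⟨⟨y, hys⟩, hy⟩
  · have := h (i y.1)
    have hle : W.ι ''ᵁ W.toScheme.basicOpen (t y) ≤ f ⁻¹ᵁ U (i y.1) := by
      rw [ht]
      exact f.preimage_mono (hi y.1)
    have : CompactSpace (W.toScheme.basicOpen (t y)).toScheme := by
      refine isCompact_iff_compactSpace.1 ?_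
      rw [W.ι.isOpenEmbedding.isEmbedding.isCompact_iff]
      have e : W.ι '' (W.toScheme.basicOpen (t y) : Set W.toScheme) =
          f ⁻¹' (Y.basicOpen (r y) : Set Y) := congrArg (fun U : X.Opens => (U : Set X)) (ht y)
      rw [e]
      exact QuasiCompact.isCompact_preimage _ (Y.basicOpen (r y)).2 (hV.basicOpen (r y)).isCompact
    exact .of_isImmersion (IsOpenImmersion.lift (f ⁻¹ᵁ U (i y.1)).ι
      ((W.toScheme.basicOpen (t y)).ι ≫ W.ι) (by
        rw [Scheme.Opens.range_ι]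
        rintro _ ⟨z, rfl⟩
        exact hle ⟨_, z.2, rfl⟩))

theorem isQuasiAffine_of_isQuasiAffine_source [IsAffine Y] [X.IsQuasiAffine] (f : X ⟶ Y) :
    Mor2.IsQuasiAffine f := by
  refine ⟨inferInstance, fun V hV => ?_⟩
  have : CompactSpace (f ⁻¹ᵁ V).toScheme :=
    isCompact_iff_compactSpace.1 (QuasiCompact.isCompact_preimage _ V.2 hV.isCompact)
  exact .of_isImmersion (f ⁻¹ᵁ V).ι

theorem source_isQuasiAffine [IsAffine Y] {f : X ⟶ Y} (hf : Mor2.IsQuasiAffine f) :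
    X.IsQuasiAffine := by
  have := hf.2 ⊤ (isAffineOpen_top Y)
  have := hf.1
  have : CompactSpace X := QuasiCompact.compactSpace_of_compactSpace f
  exact .of_isImmersion (IsOpenImmersion.lift (f ⁻¹ᵁ ⊤).ι (𝟙 X) (by simp))

/-- Being quasi-affine as a `MorphismProperty`. -/
abbrev quasiAffine : MorphismProperty Scheme.{u} := fun _ _ f => Mor2.IsQuasiAffine f

theorem quasiAffine_isPullback {P X Y Z : Scheme.{u}} {fst : P ⟶ X} {snd : P ⟶ Y}
    {f : X ⟶ Z} {g : Y ⟶ Z} (h : IsPullback fst snd f g) (hf : Mor2.IsQuasiAffine f) :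
    Mor2.IsQuasiAffine snd := by
  have := hf.1
  have : QuasiCompact snd := MorphismProperty.of_isPullback h hf.1
  have H : ∀ y : Y, ∃ (U : Z.Opens) (V : Y.Opens), IsAffineOpen U ∧ IsAffineOpen V ∧ y ∈ V ∧
      V ≤ g ⁻¹ᵁ U := by
    intro y
    obtain ⟨U, hU, hyU, -⟩ := exists_isAffineOpen_mem_and_subset (x := g y) (U := ⊤) trivial
    obtain ⟨V, hV, hyV, hVU⟩ := exists_isAffineOpen_mem_and_subset (U := g ⁻¹ᵁ U) hyU
    exact ⟨U, V, hU, hV, hyV, hVU⟩
  choose U V hU hV hyV hVU using H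
  refine isQuasiAffine_of_cover snd V (top_le_iff.1 fun y _ => Opens.mem_iSup.2 ⟨y, hyV y⟩) hV
    fun y => ?_
  have : IsAffine (U y).toScheme := hU y
  have : IsAffine (V y).toScheme := hV y
  have big := (isPullback_morphismRestrict f (U y)).flip
  have out := (isPullback_morphismRestrict snd (V y)).flip.paste_horiz h
  let l : (V y).toScheme ⟶ (U y).toScheme := g.resLE (U y) (V y) (hVU y)
  have hl : l ≫ (U y).ι = (V y).ι ≫ g := by simp [l]
  rw [← hl] at out
  have sq : IsPullback (big.lift ((snd ⁻¹ᵁ V y).ι ≫ fst) (snd ∣_ V y ≫ l)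
      (out.w.trans (Category.assoc _ _ _).symm)) (snd ∣_ V y) (f ∣_ U y) l := by
    refine IsPullback.of_right ?_ (big.lift_snd _ _ _) big
    rw [big.lift_fst]
    exact out
  have := MorphismProperty.of_isPullback (P := @IsAffineHom.{u}) sq.flip (inferInstance : IsAffineHom l)
  have := hf.2 (U y) (hU y)
  exact .of_isAffineHom (big.lift ((snd ⁻¹ᵁ V y).ι ≫ fst) (snd ∣_ V y ≫ l)
      (out.w.trans (Category.assoc _ _ _).symm))

instance : (quasiAffine.{u}).IsStableUnderBaseChange where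
  of_isPullback h hf := quasiAffine_isPullback h hf

theorem quasiAffine_of_iSup_eq_top (f : X ⟶ Y) {ι : Type u} (U : ι → Y.Opens) (hU : ⨆ i, U i = ⊤)
    (h : ∀ i, Mor2.IsQuasiAffine (f ∣_ U i)) : Mor2.IsQuasiAffine f := by
  have : QuasiCompact f :=
    IsZariskiLocalAtTarget.of_iSup_eq_top (P := @QuasiCompact.{u}) U hU fun i => (h i).1
  have H : ∀ y : Y, ∃ i, ∃ V : Y.Opens, IsAffineOpen V ∧ y ∈ V ∧ V ≤ U i := by
    intro y
    obtain ⟨i, hi⟩ := Opens.mem_iSup.1 (hU.ge (Set.mem_univ y))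
    obtain ⟨V, hV, hyV, hVU⟩ := exists_isAffineOpen_mem_and_subset hi
    exact ⟨i, V, hV, hyV, hVU⟩
  choose i V hV hyV hVU using H
  refine isQuasiAffine_of_cover f V (top_le_iff.1 fun y _ => Opens.mem_iSup.2 ⟨y, hyV y⟩) hV
    fun y => ?_
  let V' := (U (i y)).ι ⁻¹ᵁ V y
  have hV' : IsAffineOpen V' := (hV y).preimage_of_isOpenImmersion _ (by
    rw [Scheme.Opens.opensRange_ι]
    exact hVU y)
  have := (h (i y)).2 V' hV'
  let e : ((f ∣_ U (i y)) ⁻¹ᵁ V').toScheme ⟶ X :=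
    ((f ∣_ U (i y)) ⁻¹ᵁ V').ι ≫ (f ⁻¹ᵁ U (i y)).ι
  have he : Set.range (f ⁻¹ᵁ V y).ι ⊆ Set.range e := by
    rw [Scheme.Opens.range_ι]
    intro x hx
    refine ⟨⟨⟨x, hVU y hx⟩, ?_⟩, rfl⟩
    show ((f ∣_ U (i y)) ≫ (U (i y)).ι) ⟨x, hVU y hx⟩ ∈ V y
    rw [morphismRestrict_ι]
    exact hx
  have : CompactSpace (f ⁻¹ᵁ V y).toScheme :=
    isCompact_iff_compactSpace.1 (QuasiCompact.isCompact_preimage _ (V y).2 (hV y).isCompact)
  exact .of_isImmersion (IsOpenImmersion.lift e (f ⁻¹ᵁ V y).ι he)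

instance : IsZariskiLocalAtTarget (quasiAffine.{u}) :=
  IsZariskiLocalAtTarget.mk'
    (fun f U h => quasiAffine_isPullback (isPullback_morphismRestrict f U).flip h)
    (fun f _ U hU h => quasiAffine_of_iSup_eq_top f U hU h)

theorem descends_quasiAffine : Descends ⊤ quasiAffine.{u} := by
  refine Descends.of_affineBase ?_
  intro I _ _ D c hc _ i₀ _ X₀ f₀ _ _ hQ X p f sq hf
  have := isAffineHom_π_app D c hc i₀
  have : IsAffine c.pt := isAffine_of_isAffineHom (c.π.app i₀)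
  have : (stageCone D c f₀ sq).pt.IsQuasiAffine := source_isQuasiAffine hf
  obtain ⟨j, hj⟩ := Scheme.exists_isQuasiAffine_of_isLimit (stage D f₀) (stageCone D c f₀ sq)
    (isLimitStageCone D c f₀ sq hc)
  have : IsAffine (D.obj j.left) := isAffine_of_isAffineHom (D.map j.hom)
  have : Scheme.IsQuasiAffine (pullback f₀ (D.map j.hom)) := hj
  exact ⟨j.left, j.hom, isQuasiAffine_of_isQuasiAffine_source _⟩

end Groth.Agent.EGA43.Limit
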